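import Mathlib

/-!
# S2465 (products of two `m`-th powers): interface (helper78)

* `Pr n g` : `g` is a product of two elements of order prime to `n`.
* `All n G` : every element of `G` is such a product.
* `Pw G` : `All 6 G` and `All p G` for every prime `p ≥ 5`.  This is the ROW statement.
* `Pw.pow` : the conclusion of S2465.
-/

set_option autoImplicit false

namespace Cfsg.Agent.H78.Pw

universe u v

variable {G : Type u} [Group G] {H : Type v} [Group H]

/-- `g` is a product of two elements of order prime to `n`. -/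
def Pr (n : ℕ) (g : G) : Prop :=
  ∃ a b : G, g = a * b ∧ (orderOf a).Coprime n ∧ (orderOf b).Coprime n

/-- every element of `G` is a product of two elements of order prime to `n`. -/
def All (n : ℕ) (G : Type*) [Group G] : Prop := ∀ g : G, Pr n g

/-- The row statement. -/
def Pw (G : Type*) [Group G] : Prop := All 6 G ∧ ∀ p : ℕ, p.Prime → 5 ≤ p → All p G

theorem Pr.mk {n : ℕ} {g a b : G} (h : g = a * b) (ha : (orderOf a).Coprime n)
    (hb : (orderOf b).Coprime n) : Pr n g := ⟨a, b, h, ha, hb⟩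

/-- an element of order prime to `n` -/
theorem Pr.of_coprime {n : ℕ} {g : G} (h : (orderOf g).Coprime n) : Pr n g :=
  ⟨g, 1, (mul_one g).symm, h, by rw [orderOf_one]; exact Nat.coprime_one_left n⟩

theorem Pr.one (n : ℕ) : Pr n (1 : G) :=
  Pr.of_coprime (by rw [orderOf_one]; exact Nat.coprime_one_left n)

/-- only the prime divisors of `n` matter -/
theorem Pr.anti {n m : ℕ} {g : G} (h : Pr n g) (hmn : ∀ d : ℕ, d.Coprime n → d.Coprime m) :
    Pr m g := by
  obtain ⟨a, b, e, ha, hb⟩ := h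
  exact ⟨a, b, e, hmn _ ha, hmn _ hb⟩

theorem Pr.of_dvd {n m : ℕ} {g : G} (h : Pr n g) (hmn : m ∣ n) : Pr m g :=
  h.anti fun _ hd => Nat.Coprime.of_dvd_right hmn hd

theorem Pr.map {n : ℕ} {g : G} (h : Pr n g) (f : G →* H) : Pr n (f g) := by
  obtain ⟨a, b, e, ha, hb⟩ := h
  refine ⟨f a, f b, by rw [e, map_mul], ?_, ?_⟩
  · exact Nat.Coprime.of_dvd_left (orderOf_map_dvd f a) ha
  · exact Nat.Coprime.of_dvd_left (orderOf_map_dvd f b) hb

theorem Pr.conj {n : ℕ} {g : G} (h : Pr n g) (x : G) : Pr n (x * g * x⁻¹) := by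
  simpa using h.map (MulAut.conj x).toMonoidHom

theorem Pr.of_isConj {n : ℕ} {g g' : G} (h : Pr n g) (hc : IsConj g g') : Pr n g' := by
  obtain ⟨x, hx⟩ := isConj_iff.1 hc
  rw [← hx]
  exact h.conj x

theorem Pr.of_conj {n : ℕ} {g x : G} (h : Pr n (x * g * x⁻¹)) : Pr n g := by
  have := h.conj x⁻¹
  simpa [mul_assoc] using this

theorem Pr.inv {n : ℕ} {g : G} (h : Pr n g) : Pr n g⁻¹ := by
  obtain ⟨a, b, e, ha, hb⟩ := h
  exact ⟨b⁻¹, a⁻¹, by rw [e, mul_inv_rev], by rwa [orderOf_inv], by rwa [orderOf_inv]⟩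

/-- in a subgroup -/
theorem Pr.of_sub {n : ℕ} {K : Subgroup G} {g : K} (h : Pr n g) : Pr n (g : G) :=
  h.map K.subtype

theorem Pr.of_mem {n : ℕ} {K : Subgroup G} (h : All n K) {g : G} (hg : g ∈ K) : Pr n g :=
  (h ⟨g, hg⟩).of_sub

theorem All.congr {n : ℕ} (e : G ≃* H) (h : All n G) : All n H := by
  intro y
  have := (h (e.symm y)).map e.toMonoidHom
  simpa using this

theorem All.of_surjective {n : ℕ} (f : G →* H) (hf : Function.Surjective f) (h : All n G) :
    All n H := by
  intro y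
  obtain ⟨x, rfl⟩ := hf y
  exact (h x).map f

/-- the image of a homomorphism -/
theorem All.of_range {n : ℕ} (f : G →* H) (h : All n G) {y : H} (hy : y ∈ f.range) : Pr n y := by
  obtain ⟨x, rfl⟩ := hy
  exact (h x).map f

theorem coprime_orderOf_mul {n : ℕ} {a b : G} (hab : Commute a b) (ha : (orderOf a).Coprime n)
    (hb : (orderOf b).Coprime n) : (orderOf (a * b)).Coprime n := by
  have h1 : orderOf (a * b) ∣ orderOf a * orderOf b := hab.orderOf_mul_dvd_mul_orderOf
  exact Nat.Coprime.of_dvd_left h1 (Nat.Coprime.mul_left ha hb)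

/-- commuting subgroups -/
theorem Pr.mul_of_subgroups {n : ℕ} {X Y : Subgroup G} (hXY : ∀ x ∈ X, ∀ y ∈ Y, Commute x y)
    {x : X} {y : Y} (hx : Pr n x) (hy : Pr n y) : Pr n ((x : G) * (y : G)) := by
  obtain ⟨a, b, e, ha, hb⟩ := hx
  obtain ⟨c, d, e', hc, hd⟩ := hy
  refine ⟨(a : G) * c, (b : G) * d, ?_, ?_, ?_⟩
  · rw [e, e', Subgroup.coe_mul, Subgroup.coe_mul]
    have h1 : Commute (b : G) (c : G) := hXY _ b.2 _ c.2
    calc (a : G) * b * (c * d) = a * (b * c) * d := by group
      _ = a * (c * b) * d := by rw [h1.eq]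
      _ = _ := by group
  · exact coprime_orderOf_mul (hXY _ a.2 _ c.2) (by rwa [Subgroup.orderOf_coe])
      (by rwa [Subgroup.orderOf_coe])
  · exact coprime_orderOf_mul (hXY _ b.2 _ d.2) (by rwa [Subgroup.orderOf_coe])
      (by rwa [Subgroup.orderOf_coe])

theorem All.prod {n : ℕ} (hG : All n G) (hH : All n H) : All n (G × H) := by
  rintro ⟨g, h⟩
  obtain ⟨a, b, e, ha, hb⟩ := hG g
  obtain ⟨c, d, e', hc, hd⟩ := hH h
  refine ⟨(a, c), (b, d), by rw [e, e', Prod.mk_mul_mk], ?_, ?_⟩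
  · rw [Prod.orderOf_mk]
    exact Nat.Coprime.of_dvd_left (Nat.lcm_dvd_mul _ _) (Nat.Coprime.mul_left ha hc)
  · rw [Prod.orderOf_mk]
    exact Nat.Coprime.of_dvd_left (Nat.lcm_dvd_mul _ _) (Nat.Coprime.mul_left hb hd)

/-- **Counting**: more than half of the elements have order prime to `n`. -/
theorem All.of_half [Finite G] {n : ℕ}
    (h : Nat.card G < 2 * Nat.card {a : G // (orderOf a).Coprime n}) : All n G := by
  classical
  have : Fintype G := Fintype.ofFinite G
  intro g
  let A : Finset G := Finset.univ.filter fun a => (orderOf a).Coprime n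
  let B : Finset G := A.image fun a => g * a⁻¹
  have hA : A.card = Nat.card {a : G // (orderOf a).Coprime n} := by
    rw [Nat.card_eq_fintype_card, Fintype.card_subtype]
  have hB : B.card = A.card := Finset.card_image_of_injective _ fun a b hab => by
    simpa using hab
  have hne : ¬ Disjoint A B := by
    intro hd
    have h1 := Finset.card_union_of_disjoint hd
    have h2 : (A ∪ B).card ≤ Fintype.card G := Finset.card_le_univ _
    rw [Nat.card_eq_fintype_card] at h
    omega
  rw [Finset.not_disjoint_iff] at hne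
  obtain ⟨a, ha, hb⟩ := hne
  obtain ⟨b, hb', rfl⟩ := Finset.mem_image.1 hb
  refine ⟨g * b⁻¹, b, by group, (Finset.mem_filter.1 ha).2, (Finset.mem_filter.1 hb').2⟩

/-- elements of order prime to `m` are `m`-th powers -/
theorem exists_pow_eq {m : ℕ} {a : G} (h : (orderOf a).Coprime m) : ∃ c : G, c ^ m = a := by
  obtain ⟨k, hk⟩ := exists_pow_eq_self_of_coprime h.symm
  exact ⟨a ^ k, by rw [← pow_mul, mul_comm, pow_mul, hk]⟩

theorem Pr.pow {m : ℕ} {g : G} (h : Pr m g) : ∃ a b : G, g = a ^ m * b ^ m := by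
  obtain ⟨a, b, e, ha, hb⟩ := h
  obtain ⟨c, rfl⟩ := exists_pow_eq ha
  obtain ⟨d, rfl⟩ := exists_pow_eq hb
  exact ⟨c, d, e⟩

/-- **The conclusion of S2465 from the row statement.** -/
theorem Pw.pow (h : Pw G) {m : ℕ} (hm : IsPrimePow m ∨ ∃ k : ℕ, m = 6 ^ k) (g : G) :
    ∃ a b : G, g = a ^ m * b ^ m := by
  rcases hm with hm | ⟨k, rfl⟩
  · obtain ⟨p, k, hp, hk, rfl⟩ := hm
    have hp' : p.Prime := hp.nat_prime
    rcases lt_or_ge p 5 with h5 | h5
    · have h6 : p ∣ 6 := by
        have h2 := hp'.two_le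
        interval_cases p
        · decide
        · decide
        · exact absurd hp' (by decide)
      exact ((h.1 g).anti fun d hd => (Nat.Coprime.of_dvd_right h6 hd).pow_right k).pow
    · exact ((h.2 p hp' h5 g).anti fun d hd => hd.pow_right k).pow
  · exact ((h.1 g).anti fun d hd => hd.pow_right k).pow

theorem Pw.congr (e : G ≃* H) (h : Pw G) : Pw H :=
  ⟨h.1.congr e, fun p hp h5 => (h.2 p hp h5).congr e⟩

theorem Pw.of_surjective (f : G →* H) (hf : Function.Surjective f) (h : Pw G) : Pw H :=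
  ⟨h.1.of_surjective f hf, fun p hp h5 => (h.2 p hp h5).of_surjective f hf⟩

/-- only the primes dividing the order matter -/
theorem Pw.of [Finite G] (h : All 6 G)
    (h' : ∀ p : ℕ, p.Prime → 5 ≤ p → p ∣ Nat.card G → All p G) : Pw G := by
  refine ⟨h, fun p hp h5 => ?_⟩
  by_cases hd : p ∣ Nat.card G
  · exact h' p hp h5 hd
  · intro g
    apply Pr.of_coprime
    exact (Nat.Coprime.of_dvd_left (orderOf_dvd_natCard g)
      ((Nat.Prime.coprime_iff_not_dvd hp).2 hd).symm)

/-- every element is a product of two elements of `r`-power order, `r ≥ 5` -/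
theorem All.of_two_pgroup {r n : ℕ} (hr : r.Coprime n)
    (h : ∀ g : G, ∃ a b : G, g = a * b ∧ (∃ k, a ^ r ^ k = 1) ∧ ∃ k, b ^ r ^ k = 1) : All n G := by
  intro g
  obtain ⟨a, b, e, ⟨k, hk⟩, l, hl⟩ := h g
  exact ⟨a, b, e, Nat.Coprime.of_dvd_left (orderOf_dvd_of_pow_eq_one hk) (hr.pow_left k),
    Nat.Coprime.of_dvd_left (orderOf_dvd_of_pow_eq_one hl) (hr.pow_left l)⟩

end Cfsg.Agent.H78.Pw
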